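import Mathlib
import Groth.Prelude.Def_CAlgX

set_option autoImplicit false
universe u

open TensorProduct

namespace Groth.Agent.H5.AF

section
variable {R S R' : Type u} [CommRing R] [CommRing S] [Algebra R S] [CommRing R'] [Algebra R R']

/-- the `A`-linear retraction `R' ⊗ A → A` induced by a retraction `R' → R`. -/
noncomputable def retr (ρ : R' →ₗ[R] R) (A : Type u) [CommRing A] [Algebra R A] :
    R' ⊗[R] A →ₗ[R] A :=
  (TensorProduct.lid R A).toLinearMap.comp (LinearMap.rTensor A ρ)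

theorem retr_tmul (ρ : R' →ₗ[R] R) (A : Type u) [CommRing A] [Algebra R A] (c : R') (a : A) :
    retr ρ A (c ⊗ₜ a) = ρ c • a := by
  unfold retr
  rw [LinearMap.comp_apply, LinearMap.rTensor_tmul]
  exact TensorProduct.lid_tmul _ _

theorem retr_mul_one_tmul (ρ : R' →ₗ[R] R) (A : Type u) [CommRing A] [Algebra R A]
    (x : R' ⊗[R] A) (a : A) : retr ρ A (x * (1 ⊗ₜ a)) = retr ρ A x * a := by
  induction x using TensorProduct.induction_on with
  | zero => rw [zero_mul, map_zero, zero_mul]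
  | tmul c b =>
    rw [Algebra.TensorProduct.tmul_mul_tmul, mul_one, retr_tmul, retr_tmul, smul_mul_assoc]
  | add x y hx hy => rw [add_mul, map_add, map_add, hx, hy, add_mul]

theorem retr_mem (ρ : R' →ₗ[R] R) (A : Type u) [CommRing A] [Algebra R A] (J : Ideal A)
    (x : R' ⊗[R] A)
    (hx : x ∈ J.map (Algebra.TensorProduct.includeRight : A →ₐ[R] R' ⊗[R] A)) :
    retr ρ A x ∈ J := by
  have key : ∀ c : R' ⊗[R] A, retr ρ A (c * x) ∈ J := by
    rw [Ideal.map] at hx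
    refine Submodule.span_induction ?_ ?_ ?_ ?_ hx
    · rintro _ ⟨j, hj, rfl⟩ c
      show retr ρ A (c * ((1 : R') ⊗ₜ j)) ∈ J
      rw [retr_mul_one_tmul]
      exact Ideal.mul_mem_left _ _ hj
    · intro c
      rw [mul_zero, map_zero]; exact zero_mem _
    · intro a b _ _ ha hb c
      rw [mul_add, map_add]; exact add_mem (ha c) (hb c)
    · intro d y _ hy c
      rw [smul_eq_mul, ← mul_assoc]
      exact hy (c * d)
  have := key 1
  rwa [one_mul] at this

/-- **Descent of adic formal smoothness along a ring map with a linear retraction**. -/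
theorem isAdicFormallySmooth_of_retraction (𝔫 : Ideal S) (ρ : R' →ₗ[R] R)
    (hρ : ∀ r : R, ρ (algebraMap R R' r) = r)
    (h : CAlgX.IsAdicFormallySmooth R' (R' ⊗[R] S)
      (𝔫.map (Algebra.TensorProduct.includeRight : S →ₐ[R] R' ⊗[R] S))) :
    CAlgX.IsAdicFormallySmooth R S 𝔫 := by
  intro A _ _ J hJ ψ ⟨k, hk⟩
  -- the base-changed test data
  let q' : R' ⊗[R] A →ₐ[R'] R' ⊗[R] (A ⧸ J) :=
    Algebra.TensorProduct.map (AlgHom.id R' R') (Ideal.Quotient.mkₐ R J)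
  have hq' : Function.Surjective q' :=
    Algebra.TensorProduct.map_surjective _ _ Function.surjective_id Ideal.Quotient.mk_surjective
  let J' : Ideal (R' ⊗[R] A) := RingHom.ker q'.toRingHom
  have hJ'eq : J' = J.map (Algebra.TensorProduct.includeRight : A →ₐ[R] R' ⊗[R] A) := by
    have h1 := Algebra.TensorProduct.lTensor_ker (A := R') (Ideal.Quotient.mkₐ R J)
      Ideal.Quotient.mk_surjective
    have hk1 : RingHom.ker (Ideal.Quotient.mkₐ R J) = J := by
      ext x; exact Ideal.Quotient.eq_zero_iff_mem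
    rw [hk1] at h1
    rw [← h1]
    ext x
    rfl
  have hJ' : J' ^ 2 = ⊥ := by
    rw [hJ'eq, ← Ideal.map_pow, hJ, Ideal.map_bot]
  let e : ((R' ⊗[R] A) ⧸ J') ≃ₐ[R'] R' ⊗[R] (A ⧸ J) :=
    Ideal.quotientKerAlgEquivOfSurjective hq'
  have he : ∀ x : R' ⊗[R] A, e (Ideal.Quotient.mk J' x) = q' x := fun x => rfl
  let ψ₀ : R' ⊗[R] S →ₐ[R'] R' ⊗[R] (A ⧸ J) := Algebra.TensorProduct.map (AlgHom.id R' R') ψ
  let ψ' : R' ⊗[R] S →ₐ[R'] (R' ⊗[R] A) ⧸ J' := e.symm.toAlgHom.comp ψ₀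
  have hψ' : ∀ y, ψ' y = e.symm (ψ₀ y) := fun y => rfl
  have hkill : ∀ y ∈ (𝔫.map (Algebra.TensorProduct.includeRight : S →ₐ[R] R' ⊗[R] S)) ^ k,
      ψ' y = 0 := by
    intro y hy
    rw [← Ideal.map_pow] at hy
    have hle : (𝔫 ^ k).map (Algebra.TensorProduct.includeRight : S →ₐ[R] R' ⊗[R] S) ≤
        RingHom.ker ψ'.toRingHom := by
      rw [Ideal.map_le_iff_le_comap]
      intro x hx
      show ψ' ((1 : R') ⊗ₜ x) = 0
      rw [hψ']
      have : ψ₀ ((1 : R') ⊗ₜ x) = 0 := by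
        show Algebra.TensorProduct.map (AlgHom.id R' R') ψ ((1 : R') ⊗ₜ x) = 0
        rw [Algebra.TensorProduct.map_tmul, hk x hx, TensorProduct.tmul_zero]
      rw [this, map_zero]
    exact hle hy
  obtain ⟨χ', hχ'⟩ := h (R' ⊗[R] A) J' hJ' ψ' ⟨k, hkill⟩
  have hqχ : ∀ y, q' (χ' y) = ψ₀ y := by
    intro y
    have h1 : Ideal.Quotient.mk J' (χ' y) = ψ' y := congrArg (fun φ => φ y) hχ'
    rw [← he, h1, hψ', AlgEquiv.apply_symm_apply]
  -- decomposition of `χ' (1 ⊗ s)`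
  have hdec : ∀ s : S, ∀ a : A, Ideal.Quotient.mk J a = ψ s →
      χ' ((1 : R') ⊗ₜ s) - (1 : R') ⊗ₜ a ∈ J' := by
    intro s a ha
    show q' (χ' ((1 : R') ⊗ₜ s) - (1 : R') ⊗ₜ a) = 0
    rw [map_sub, hqχ]
    show Algebra.TensorProduct.map (AlgHom.id R' R') ψ ((1 : R') ⊗ₜ s) -
      Algebra.TensorProduct.map (AlgHom.id R' R') (Ideal.Quotient.mkₐ R J) ((1 : R') ⊗ₜ a) = 0
    rw [Algebra.TensorProduct.map_tmul, Algebra.TensorProduct.map_tmul, ← ha, sub_eq_zero]
    rfl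
  have hρ1 : ρ 1 = 1 := by
    have := hρ 1
    rwa [map_one] at this
  let r := retr ρ A
  have hr1 : ∀ a : A, r ((1 : R') ⊗ₜ a) = a := by
    intro a
    show retr ρ A _ = a
    rw [retr_tmul, hρ1, one_smul]
  have hrJ : ∀ x ∈ J', r x ∈ J := fun x hx => retr_mem ρ A J x (hJ'eq ▸ hx)
  let χf : S → A := fun s => r (χ' ((1 : R') ⊗ₜ s))
  have hmod : ∀ s, Ideal.Quotient.mk J (χf s) = ψ s := by
    intro s
    obtain ⟨a, ha⟩ := Ideal.Quotient.mk_surjective (ψ s)
    have h1 := hrJ _ (hdec s a ha)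
    rw [map_sub, hr1] at h1
    rw [← ha, Ideal.Quotient.eq]
    exact h1
  have hmul : ∀ s t, χf (s * t) = χf s * χf t := by
    intro s t
    obtain ⟨a, ha⟩ := Ideal.Quotient.mk_surjective (ψ s)
    obtain ⟨b, hb⟩ := Ideal.Quotient.mk_surjective (ψ t)
    set x := χ' ((1 : R') ⊗ₜ s) with hx
    set y := χ' ((1 : R') ⊗ₜ t) with hy
    have hxy : χ' ((1 : R') ⊗ₜ (s * t)) = x * y := by
      rw [hx, hy, ← map_mul, Algebra.TensorProduct.tmul_mul_tmul, mul_one]
    set j₁ := x - (1 : R') ⊗ₜ a with hj₁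
    set j₂ := y - (1 : R') ⊗ₜ b with hj₂
    have hj₁J : j₁ ∈ J' := hdec s a ha
    have hj₂J : j₂ ∈ J' := hdec t b hb
    have hjj : j₁ * j₂ = 0 := by
      have : j₁ * j₂ ∈ J' ^ 2 := by rw [pow_two]; exact Ideal.mul_mem_mul hj₁J hj₂J
      rw [hJ'] at this
      exact this
    have hx' : x = (1 : R') ⊗ₜ a + j₁ := by rw [hj₁]; ring
    have hy' : y = (1 : R') ⊗ₜ b + j₂ := by rw [hj₂]; ring
    have hrr : r j₁ * r j₂ = 0 := by
      have : r j₁ * r j₂ ∈ J ^ 2 := by rw [pow_two]; exact Ideal.mul_mem_mul (hrJ _ hj₁J) (hrJ _ hj₂J)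
      rw [hJ] at this
      exact this
    show r (χ' ((1 : R') ⊗ₜ (s * t))) = r x * r y
    rw [hxy]
    have hexp : x * y = (1 : R') ⊗ₜ (a * b) + j₂ * ((1 : R') ⊗ₜ a) + j₁ * ((1 : R') ⊗ₜ b) := by
      rw [hx', hy']
      have h1 : ((1 : R') ⊗ₜ[R] a) * ((1 : R') ⊗ₜ[R] b) = (1 : R') ⊗ₜ[R] (a * b) := by
        rw [Algebra.TensorProduct.tmul_mul_tmul, mul_one]
      calc ((1 : R') ⊗ₜ[R] a + j₁) * ((1 : R') ⊗ₜ[R] b + j₂)
          = ((1 : R') ⊗ₜ[R] a) * ((1 : R') ⊗ₜ[R] b) + j₂ * ((1 : R') ⊗ₜ a) +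
            j₁ * ((1 : R') ⊗ₜ b) + j₁ * j₂ := by ring
        _ = _ := by rw [h1, hjj, add_zero]
    rw [hexp, map_add, map_add, hr1]
    show a * b + retr ρ A (j₂ * ((1 : R') ⊗ₜ a)) + retr ρ A (j₁ * ((1 : R') ⊗ₜ b)) = r x * r y
    rw [retr_mul_one_tmul, retr_mul_one_tmul, hx', hy', map_add, map_add, hr1, hr1]
    have : (a + r j₁) * (b + r j₂) = a * b + r j₂ * a + r j₁ * b + r j₁ * r j₂ := by ring
    rw [this, hrr, add_zero]
  let χ : S →ₐ[R] A :=
    { toFun := χf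
      map_one' := by
        show r (χ' ((1 : R') ⊗ₜ (1 : S))) = 1
        have : ((1 : R') ⊗ₜ[R] (1 : S)) = 1 := rfl
        rw [this, map_one]
        exact hr1 1
      map_mul' := hmul
      map_zero' := by
        show r (χ' ((1 : R') ⊗ₜ (0 : S))) = 0
        rw [TensorProduct.tmul_zero, map_zero, map_zero]
      map_add' := fun s t => by
        show r (χ' ((1 : R') ⊗ₜ (s + t))) = r (χ' ((1 : R') ⊗ₜ s)) + r (χ' ((1 : R') ⊗ₜ t))
        rw [TensorProduct.tmul_add, map_add, map_add]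
      commutes' := fun c => by
        show r (χ' ((1 : R') ⊗ₜ (algebraMap R S c))) = algebraMap R A c
        have h1 : ((1 : R') ⊗ₜ[R] (algebraMap R S c)) =
            algebraMap R' (R' ⊗[R] S) (algebraMap R R' c) := by
          rw [Algebra.TensorProduct.algebraMap_apply,
            Algebra.algebraMap_eq_smul_one (R := R) (A := S) c, TensorProduct.tmul_smul,
            TensorProduct.smul_tmul', Algebra.smul_def, mul_one]
          rfl
        rw [h1, χ'.commutes, Algebra.TensorProduct.algebraMap_apply]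
        show retr ρ A _ = _
        rw [retr_tmul]
        have : (algebraMap R' R') (algebraMap R R' c) = algebraMap R R' c := rfl
        rw [this, hρ, Algebra.algebraMap_eq_smul_one] }
  refine ⟨χ, ?_⟩
  apply AlgHom.ext
  intro s
  exact hmod s

end

end Groth.Agent.H5.AF
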